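import Mathlib
import Cfsg.Agent.Lib.Helper49.RUW.Defs

/-!
# RUW (S3174 + S3175, helper49): package [CENTER]

`|Z(W)| = 8` for `W = C_T(Z₃(T))`.
-/

set_option autoImplicit false

namespace Cfsg.Agent.Lib.Helper61.RUW

open Cfsg.Agent.Lib.Helper49.RUW

universe u

/-- [CENTER] -/
theorem pkgCenter (hTower : PkgTower.{u}) (hChain : PkgChain.{u}) (hNormCent : PkgNormCent.{u})
    (hZFacts : PkgZFacts.{u}) (hCenK : PkgCenK.{u}) (hCompl : PkgCompl.{u}) : PkgCenter.{u} := by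
  intro T _ _ hT W hW hA hB hd
  have hWn : W.Normal := hA.Wn
  have hZ3n : (Subgroup.upperCentralSeries T 3).Normal := inferInstance
  have hZ2n : (Subgroup.upperCentralSeries T 2).Normal := inferInstance
  have hZ3W : Subgroup.upperCentralSeries T 3 ≤ W := by
    rw [← hA.frat]
    exact Subgroup.map_subtype_le _
  have hWc : ∀ w ∈ W, ∀ z ∈ Subgroup.upperCentralSeries T 3, z * w = w * z := by
    intro w hw z hz
    rw [hW] at hw
    exact Subgroup.mem_centralizer_iff.mp hw z hz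
  by_contra hne
  -- the centre of `W`, as a subgroup of `T`
  obtain ⟨N, hNdef⟩ : ∃ N : Subgroup T, N = (Subgroup.center ↥W).map W.subtype := ⟨_, rfl⟩
  have hNn : N.Normal := by
    rw [hNdef]
    exact ConjAct.normal_of_characteristic_of_normal
  have hNW : N ≤ W := by
    rw [hNdef]
    exact Subgroup.map_subtype_le _
  have hNcard : Nat.card N = Nat.card ↥(Subgroup.center ↥W) := by
    rw [hNdef]
    exact Subgroup.card_map_of_injective W.subtype_injective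
  have hNmem : ∀ n ∈ N, ∀ w ∈ W, w * n = n * w := by
    intro n hn w hw
    rw [hNdef] at hn
    obtain ⟨n', hn', rfl⟩ := Subgroup.mem_map.mp hn
    have h1 := Subgroup.mem_center_iff.mp hn' ⟨w, hw⟩
    exact congrArg Subtype.val h1
  have hZ3N : Subgroup.upperCentralSeries T 3 ≤ N := by
    intro z hz
    rw [hNdef]
    refine Subgroup.mem_map.mpr ⟨⟨z, hZ3W hz⟩, ?_, rfl⟩
    rw [Subgroup.mem_center_iff]
    intro g
    apply Subtype.ext
    exact (hWc g.1 g.2 z hz).symm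
  have hZ3neN : Subgroup.upperCentralSeries T 3 ≠ N := by
    intro h
    apply hne
    rw [← hNcard, ← h, hA.c3]
  obtain ⟨y, hyN, hyZ, hycg⟩ :=
    hNormCent hT N (Subgroup.upperCentralSeries T 3) hNn hZ3n hZ3N hZ3neN
  have hyW : y ∈ W := hNW hyN
  have hycomm : ∀ w ∈ W, w * y = y * w := hNmem y hyN
  -- the tower
  obtain ⟨X₁, c, x, t₀, hS, hAB, hAsq, hidx⟩ := hTower hT hA.c1 hA.c2 hA.c3
  rw [← hW] at hS hAB hAsq hidx
  have hZ23 : Subgroup.upperCentralSeries T 2 ≤ Subgroup.upperCentralSeries T 3 :=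
    Subgroup.upperCentralSeries_mono T (by omega)
  have hxx : x * x ∈ W := by
    apply hAsq _ x hS.g2
    intro z hz
    rw [← pow_two]
    exact hB.exp z (hZ23 hz)
  have hcx : c * x * c⁻¹ * x⁻¹ ∈ W := hAB c (hS.X12 hS.g1) x hS.g2
  have hZF := hZFacts hT W hW hA hB
  obtain ⟨P₁, P₂, P₃, hC⟩ := hChain W X₁ _ (Subgroup.upperCentralSeries T 3) c x t₀ hS hZ3n
    hZ3W hZF.sqW hZF.commW
  have hy1 : y ∈ P₁ := (hC.m1 y).mpr ⟨hyW, hycg c⟩
  have hy2 : y ∈ P₂ := (hC.m2 y).mpr ⟨hy1, hycg x⟩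
  have hy3 : y ∈ P₃ := (hC.m3 y).mpr ⟨hy2, hycg t₀⟩
  have hP3Z4 : P₃ ≤ Subgroup.upperCentralSeries T 4 := by
    intro p hp
    rw [Subgroup.mem_upperCentralSeries_succ_iff]
    intro t
    rw [commutatorElement_def]
    have h1 := hC.fixT p hp t
    have h2 : p * t * p⁻¹ * t⁻¹ = (p * cg t p * p⁻¹)⁻¹ := by
      unfold cg
      group
    rw [h2]
    exact Subgroup.inv_mem _ (hZ3n.conj_mem _ h1 p)
  have hc3 : Nat.card P₃ ≤ 16 := by
    rw [← hA.c4]
    exact Subgroup.card_le_of_le hP3Z4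
  have hc2 : Nat.card P₂ ≤ 32 := by
    have h1 := hC.c3
    rw [hA.c3] at h1
    have h2 : Nat.card P₃ ^ 2 ≤ 16 ^ 2 := Nat.pow_le_pow_left hc3 2
    omega
  have hc1 : Nat.card P₁ ≤ 128 := by
    have h1 := hC.c2
    rw [hA.c3] at h1
    have h2 : Nat.card P₂ ^ 2 ≤ 32 ^ 2 := Nat.pow_le_pow_left hc2 2
    omega
  have hP1 : Nat.card P₁ = 2 ^ 7 := by
    have h1 := hC.c1
    rw [hA.c3, hA.cardW] at h1
    by_contra h
    have h3 : Nat.card P₁ ≤ 127 := by omega
    have h2 : Nat.card P₁ ^ 2 ≤ 127 ^ 2 := Nat.pow_le_pow_left h3 2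
    omega
  have hP2 : Nat.card P₂ = 2 ^ 5 := by
    have h1 := hC.c2
    rw [hA.c3, hP1] at h1
    by_contra h
    have h3 : Nat.card P₂ ≤ 31 := by omega
    have h2 : Nat.card P₂ ^ 2 ≤ 31 ^ 2 := Nat.pow_le_pow_left h3 2
    omega
  obtain ⟨K, hKW, hZ3K, hKcard, hKsq⟩ := hCenK W X₁ _ (Subgroup.upperCentralSeries T 2)
    (Subgroup.upperCentralSeries T 3) c x t₀ P₁ P₂ P₃ y hS hC hZF hxx hcx hP1 hP2 hy3 hyZ hycomm
  have hZ2ne : Subgroup.upperCentralSeries T 2 ≠ Subgroup.upperCentralSeries T 3 := by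
    intro h
    have h1 := hA.c2
    rw [h, hA.c3] at h1
    omega
  obtain ⟨U, hUK, hEU, hKU⟩ := hCompl K (Subgroup.upperCentralSeries T 2)
    (Subgroup.upperCentralSeries T 3) hZ23 hZ3K hZ2ne hKsq
    (fun k _ h hh => hZ2n.conj_mem h hh k)
  apply hEU
  have hUW : U ≤ W := hUK.trans hKW
  have hcardU' : Nat.card ↥(U.subgroupOf W) = Nat.card ↥U :=
    Nat.card_congr (Subgroup.subgroupOfEquivOfLe hUW).toEquiv
  have hidxU : (U.subgroupOf W).index ≤ 16 := by
    have h1 := Subgroup.card_mul_index (U.subgroupOf W)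
    rw [hcardU', hA.cardW] at h1
    by_contra h
    have h2 : 17 ≤ (U.subgroupOf W).index := by omega
    have h3 : 2 ^ 7 ≤ Nat.card U := by omega
    have h4 : 2 ^ 7 * 17 ≤ Nat.card U * (U.subgroupOf W).index := Nat.mul_le_mul h3 h2
    omega
  have h5 := hd (U.subgroupOf W) hidxU
  intro z hz
  rw [← hA.frat] at hz
  obtain ⟨z', hz', rfl⟩ := Subgroup.mem_map.mp hz
  exact Subgroup.mem_subgroupOf.mp (h5 hz')

end Cfsg.Agent.Lib.Helper61.RUW
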